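import Cfsg.Agent.ThK1.Cert

set_option autoImplicit false
set_option Elab.async false
set_option maxRecDepth 100000
set_option linter.all false

namespace Cfsg.Agent.ThK1
open Cfsg.Agent.CGT

noncomputable def cx_l0 : Level := ⟨0, [[0], [2], [4], [6], [8], [10]], [1, 0, 2, 3, 1, 2, 4, 1, 5, 3, 4, 0, 5, 3, 2, 1, 3, 4, 0, 5, 5, 2, 1], 0x7ffffffffffffffffffffffffffffffffffffffffffffffffffffffffffffffffffffffffffffffffffffffffffffffffffffffffffffffffffffffffffffffffffffffffffffffffffffffffffffffffffffffffffffffffffffffffffffffffffffffffffff, 819⟩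
noncomputable def cx_l1 : Level := ⟨5, [[0], [4], [6], [8], [10]], [0, 1, 3, 2, 4, 1, 2, 3, 2, 4, 1, 2, 3, 4, 2, 1, 3, 2, 1, 4], 0x7ffffffffffffff1fffffffff3ffffff8003fffffff807fff0003ffffffffffff0000fffffc0000003fffffffff80007f8001ffffffffffc0000003ffc0003ffffffc000e010ffffffffc0003c01ffff804001ffff00407fc0000ff801fc001fc3f80fe71dbbe, 512⟩
noncomputable def cx_l2 : Level := ⟨102, [[11, 11, 11], [10, 6, 4, 6, 8, 11, 8, 4, 6]], [], 0xf0000000003000000600000400, 9⟩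
noncomputable def cx_l3 : Level := ⟨177, [[11, 11, 6, 8, 11, 6], [6, 8, 10, 4, 6, 8, 11, 4, 6]], [], 0x640000000000000003000000000080200000000002000, 8⟩
noncomputable def cx_l4 : Level := ⟨616, [[11, 11, 6, 8, 4, 6, 4, 6]], [], 0x200000000080000010000000000000002000000000000000000000000000100000000000000000000000000000000000000004000400000000000000000000000000000000000000000000000000000000000000000, 7⟩
noncomputable def cx_ls : List Level := [cx_l0, cx_l1, cx_l2, cx_l3, cx_l4]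
noncomputable def cx_S : Srch := ⟨10, m_ts, (chainBase [] c_ls), [3, 6, 8, 11, 5, 9, 7, 2, 4, 10], [3, 6, 8, 11, 5, 9, 7, 2, 4, 10], []⟩
noncomputable def cx_lk : List ℕ := [1, 6, 103, 178]
noncomputable def cx_tl : List Level := [cx_l1, cx_l2, cx_l3, cx_l4]
noncomputable def cx_R0 : ℕ := 0x2000000000000000000000000000000000100000000020000025021000086c040000012000904470bc00c057374e36cd72d7
noncomputable def g_Ws : List (List ℕ) := [[3, 6, 8, 11, 5, 9, 7, 2, 4, 10], [6, 10, 3, 6, 8, 11, 5, 9, 7, 2, 4, 10, 11, 7], [6, 8, 10, 8, 10, 4, 6, 8, 11, 4, 6, 8, 10, 4, 6, 8, 6, 4, 6, 0], [10, 10, 4, 6, 8, 11, 4, 6, 8, 11, 4, 6, 8, 11, 11, 8], [8, 11, 6, 8, 10, 10, 10], [11, 6, 8, 11, 11, 6, 8, 11], [8, 11, 6, 8, 10, 10], [6, 8], [0], [2], [4], [6], [8], [10]]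
theorem cx_l0_ok : (ptsOK 10 [] && (wordsIn [0, 2, 4, 6, 8, 10] cx_l0.S && cx_l0.ok 10 m_ns m_ts [])) = true := by decide +kernel
theorem cx_l1_ok : (ptsOK 10 [0] && (wordsIn [0, 2, 4, 6, 8, 10] cx_l1.S && cx_l1.ok 10 m_ns m_ts [0])) = true := by decide +kernel
theorem cx_l2_ok : cx_l2.okT 10 m_ts [0, 2, 4, 6, 8, 10] [5, 0] (.cons [0] (.cons [0] .nil .nil) (.cons [1] (.cons [1] (.cons [1] (.cons [3] .nil .nil) (.cons [2] .nil .nil)) .nil) (.cons [3] .nil .nil))) = true := by decide +kernel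
theorem cx_l3_ok : cx_l3.okT 10 m_ts [0, 2, 4, 6, 8, 10] [102, 5, 0] (.cons [0] (.cons [2] .nil .nil) (.cons [1] (.cons [1] (.cons [1] .nil .nil) .nil) (.cons [3] (.cons [0] .nil .nil) .nil))) = true := by decide +kernel
theorem cx_l4_ok : cx_l4.okT 10 m_ts [0, 2, 4, 6, 8, 10] [177, 102, 5, 0] (.cons [0] (.cons [0] (.cons [0] .nil .nil) .nil) (.cons [1] (.cons [1] (.cons [1] .nil .nil) .nil) .nil)) = true := by decide +kernel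
theorem cx_aux : cx_S.auxB [0, 2, 4, 6, 8, 10] cx_ls [] (0 :: cx_lk) = true := by decide +kernel
theorem cx_cov : Nat.beq (Nat.land cx_l0.O (Srch.cover m_ns (invW cx_S.u') cx_R0 12)) cx_l0.O = true := by decide +kernel
theorem cx_r0 : cx_S.run (.cons [] (.cons [] (.cons [] (.cons [] (.cons [] (.leaf 2000) .nil) .nil) .nil) .nil) (.cons [2] (.cons [4, 6, 9, 6, 2] .nil .nil) (.cons [0, 2] .nil (.cons [4, 0, 2] .nil (.cons [2, 4, 0, 2] (.cons [0, 6, 9, 4, 6, 8, 2, 4, 6, 2] .nil .nil) (.cons [6, 4, 0, 2] .nil (.cons [8, 6, 4, 2] (.cons [8, 6, 9, 2, 4, 6, 2, 0] .nil .nil) (.cons [8, 6, 4, 0, 2] (.cons [0, 2, 6, 4, 9, 9, 6, 9, 2, 4, 6, 2] .nil .nil) (.cons [2, 4, 6, 4, 2] (.cons [4, 0, 6, 9, 4, 6, 8, 2, 4, 6, 2] .nil .nil) (.cons [8, 4, 6, 4, 2] (.cons [6, 9, 9, 4, 6, 2] .nil .nil) (.cons [10, 8, 6, 4, 2] .nil (.cons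 [8, 6, 2, 4, 0, 2] (.cons [9, 2, 4, 2, 6, 9, 4, 6, 9, 2, 4, 6, 2] .nil .nil) (.cons [2, 4, 6, 4, 0, 2] (.cons [0, 4] .nil .nil) (.cons [10, 8, 6, 4, 0, 2] (.cons [4, 9, 6, 9, 4, 6, 8, 2, 4, 6, 2] .nil .nil) (.cons [0, 2, 4, 6, 4, 2] .nil (.cons [6, 8, 4, 6, 4, 2] (.cons [9, 2, 4, 6, 9, 2, 4, 6, 2] .nil .nil) (.cons [11, 8, 4, 6, 4, 2] .nil (.cons [8, 11, 8, 6, 4, 2] .nil (.cons [11, 11, 8, 6, 4, 2] .nil (.cons [6, 4, 6, 2, 4, 0, 2] .nil (.cons [8, 4, 6, 2, 4, 0, 2] (.cons [8, 2, 4, 6, 2, 4, 2, 4, 6, 9, 6] .nil .nil) (.cons [11, 8, 6, 2, 4, 0, 2] (.cons [4, 2, 8, 6, 8, 4, 6, 9, 2, 4, 6, 2] .nil .nil) (.cons [8, 2, 4, 6, 4, 0, 2] (.cons [9, 6, 0] .nil .nil) (.cons [10, 8, 4, 6, 4, 0, 2] (.cons [2, 0] .nil .nil) (.cons [11, 8, 4, 6, 4, 0, 2] (.cons [4, 2, 4, 9, 0, 6, 9, 4, 6, 8, 2, 4, 6, 2] .nil .nil) (.cons [8, 11,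 8, 6, 4, 0, 2] .nil (.cons [10, 10, 8, 6, 4, 0, 2] (.cons [9, 9, 6, 9, 4, 6, 8, 2, 4, 6, 2] .nil .nil) (.cons [10, 8, 2, 4, 6, 4, 2] (.cons [4, 9, 9, 6, 9, 2, 4, 6, 2] .nil .nil) (.cons [11, 8, 2, 4, 6, 4, 2] (.cons [2, 4, 6, 8, 2, 4, 6, 2] .nil .nil) (.cons [4, 6, 8, 4, 6, 4, 2] (.cons [0, 8, 6, 8, 4, 6, 8, 2, 4, 6, 2] .nil .nil) (.cons [10, 6, 8, 4, 6, 4, 2] (.cons [2, 8, 6, 9, 4, 6, 9, 2, 4, 6, 2] .nil .nil) (.cons [11, 11, 8, 4, 6, 4, 2] (.cons [6, 4, 6, 9, 6, 2] .nil .nil) (.cons [0, 6, 8, 11, 8, 6, 4, 2] (.cons [2, 8, 6, 9, 4, 6, 8, 2, 4, 6, 2] .nil .nil) (.cons [8, 11, 8, 6, 2, 4, 0, 2] .nil (.cons [11, 11, 8, 6, 2, 4, 0, 2] (.cons [4, 8, 2, 4, 6, 2, 8, 4, 6, 9, 2, 4, 6, 2] .nil .nil) (.cons [11, 11, 8, 4, 6, 4, 0, 2] (.cons [4, 2, 6, 9, 9, 4, 6, 9, 2, 4, 6, 2] .nil .nil) (.cons [10, 10, 8, 4, 6, 4, 0, 2]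 (.cons [8, 4, 2, 9, 6, 9, 4, 6, 2, 4, 6, 9, 6, 2] .nil .nil) (.cons [6, 8, 0, 2, 4, 6, 4, 2] .nil (.cons [10, 8, 0, 2, 4, 6, 4, 2] .nil (.cons [11, 11, 8, 2, 4, 6, 4, 2] .nil (.cons [10, 10, 8, 2, 4, 6, 4, 2] .nil (.cons [8, 11, 6, 8, 4, 6, 4, 2] (.cons [9, 6, 8, 4, 6, 2, 0] .nil .nil) (.cons [10, 10, 6, 8, 4, 6, 4, 2] (.cons [2, 8, 6, 8, 4, 6, 9, 2, 4, 6, 2] .nil .nil) (.cons [4, 0, 6, 8, 11, 8, 6, 4, 2] (.cons [4, 2, 9, 6, 8, 4, 6, 9, 2, 4, 6, 2] .nil .nil) (.cons [2, 4, 6, 8, 11, 8, 6, 4, 2] (.cons [2, 9, 9, 6, 8, 4, 6, 2, 0] .nil .nil) (.cons [8, 11, 8, 4, 6, 2, 4, 0, 2] .nil (.cons [10, 10, 8, 4, 6, 2, 4, 0, 2] (.cons [6, 8, 8, 4, 6, 8, 2, 4, 6, 2] .nil .nil) (.cons [8, 11, 6, 8, 4, 6, 4, 0, 2] .nil (.cons [8, 10, 6, 8, 4, 6, 4, 0, 2] (.cons [6, 4, 2, 8, 6, 9, 4, 6, 9, 2, 4, 6, 2] .nil .nil) (.cons [8, 10,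 4, 6, 8, 4, 6, 4, 2] (.cons [6, 9, 4, 6, 9, 9, 2, 4, 6, 2] .nil .nil) (.cons [10, 8, 10, 6, 8, 4, 6, 4, 2] (.cons [8, 2, 4, 6, 2] .nil .nil) (.cons [11, 8, 10, 6, 8, 4, 6, 4, 2] (.cons [2, 4, 9, 6, 8, 4, 6, 9, 2, 4, 6, 2] .nil .nil) (.cons [10, 8, 0, 2, 4, 6, 2, 4, 0, 2] .nil (.cons [11, 8, 0, 2, 4, 6, 2, 4, 0, 2] (.cons [4, 0, 2, 6, 4, 9, 9, 6, 9, 2, 4, 6, 2] .nil .nil) (.cons [4, 6, 8, 0, 2, 4, 6, 4, 0, 2] (.cons [8, 4, 6, 8, 8, 2, 4, 6, 2] .nil .nil) (.cons [11, 2, 4, 6, 8, 4, 6, 4, 0, 2] (.cons [2, 4, 2, 6, 9, 4, 6, 9, 9, 2, 4, 6, 2] .nil .nil) (.cons [8, 10, 4, 6, 8, 4, 6, 4, 0, 2] .nil (.cons [8, 6, 8, 11, 8, 4, 6, 4, 0, 2] (.cons [6, 8, 6, 8, 4, 6, 8, 2, 4, 6, 2] .nil .nil) (.cons [10, 8, 10, 6, 8, 4, 6, 4, 0, 2] .nil (.cons [6, 4, 6, 8, 0, 2, 4, 6, 4, 2] (.cons [9, 6, 9, 9, 4, 6, 2] .nil .nil) (.cons [8,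 11, 11, 6, 8, 2, 4, 6, 4, 2] .nil (.cons [8, 11, 8, 0, 2, 4, 6, 2, 4, 0, 2] .nil (.cons [10, 10, 8, 11, 4, 6, 8, 4, 6, 4, 2] .nil .nil))))))))))))))))))))))))))))))))))))))))))))))))))))))))))))))) (⟨cx_l0.b, cx_l0.S, [], cx_R0, 0⟩ :: cx_tl) (0 :: cx_lk) Pd.nil 0 = true := by decide +kernel
theorem g_s0 : slpB 10 m_ts (chainBase [] c_ls) g_Ws [[0, 2, 2, 1, 3, 2, 1, 2, 0, 3, 1, 0], [1, 3, 3, 3, 0, 1, 3, 0, 0, 0, 2, 1, 2, 2], [5, 7, 4, 6, 4, 6, 5, 7, 7, 4, 6, 4, 4, 6, 6], [6, 5, 6, 6, 7, 5, 7, 4, 6, 5, 6], [7, 7, 5, 5, 6, 7, 7, 4, 6, 6], [11, 13, 11, 11, 10, 10, 10, 12, 9, 10], [5, 6, 6, 4, 4, 11, 9, 9, 15], [2, 0, 7, 5, 6, 5, 7, 10, 12, 12], [7, 4, 4, 7, 13, 9, 10, 9, 14], [13, 11, 9], [13, 11, 9, 14], [13, 8]] 2 14 = true := by decide +kernel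
theorem cx_sound {G : Type*} [Group G] {φ : G →* Equiv.Perm ℕ} {γ : ℕ → G}
    (M : Model φ γ 10 m_ns m_ts) : ChainSound φ (gp γ [0, 2, 4, 6, 8, 10]) 10 [] cx_ls :=
  ⟨Level.ok_sound' M cx_l0_ok,
   Level.ok_sound' M cx_l1_ok,
   Level.okT_sound M cx_l2_ok,
   Level.okT_sound M cx_l3_ok,
   Level.okT_sound M cx_l4_ok, trivial⟩
theorem cx_cent {G : Type*} [Group G] {φ : G →* Equiv.Perm ℕ} {γ : ℕ → G}
    (C : Cert φ γ 10 m_ns m_ts [0, 2, 4, 6, 8, 10] c_ls) : Cent γ cx_S.u cx_S.Cl 12 :=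
  have X := (C.rechain (cx_sound C.M) (by decide +kernel)).exact
  have A := Srch.auxB_sound (S := cx_S) C.M (K := ⊤) le_top rfl cx_aux
  have F := fun {tr : Tr} {R : ℕ} => Srch.found_of_run (S := cx_S) C.M C.base (by decide +kernel) X A (tr := tr) (R := R)
  Cent.of_found (S := cx_S) C.M X rfl (F cx_r0) cx_cov
theorem g_top {G : Type*} [Group G] {φ : G →* Equiv.Perm ℕ} {γ : ℕ → G}
    (C : Cert φ γ 10 m_ns m_ts [0, 2, 4, 6, 8, 10] c_ls) : gw γ (g_Ws.take 2) = ⊤ := by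
  have h0 : SlpTo γ (gw γ (g_Ws.take 2)) g_Ws 2 := fun i hi =>
    ev_mem_gw γ (by interval_cases i <;> decide +kernel)
  rw [eq_top_iff, ← C.gen]
  exact SlpTo.gp_le (SlpTo.step C.M C.base (by decide +kernel) h0 g_s0) (by decide +kernel)
theorem a_data {G : Type*} [Group G] {φ : G →* Equiv.Perm ℕ} {γ : ℕ → G} (C : Cert φ γ 10 m_ns m_ts [0, 2, 4, 6, 8, 10] c_ls) :
    ∃ a u v : G, a = u * v * u⁻¹ * v⁻¹ ∧ a ^ 13 = 1 ∧ (∀ c, Commute c a → c ∈ Subgroup.zpowers a) ∧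
      ⊤ ≤ Subgroup.normalClosure {a} := by
  refine ⟨ev (ext γ) cx_S.u, ev (ext γ) [3, 6, 8], ev (ext γ) [11, 5], ?_, ?_, (cx_cent C).zpowers, ?_⟩
  · rw [← ev_invW, ← ev_invW, ← ev_append, ← ev_append, ← ev_append]; exact congrArg _ (by decide +kernel)
  · rw [← ev_pw]; exact C.base _ trivial (fixesB_sound C.M (by decide +kernel) (by decide +kernel))
  · rw [← g_top C]
    exact (le_of_eq (congrArg _ (by decide +kernel))).trans (gw_le_normalClosure γ _ [[], [6, 10]])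

end Cfsg.Agent.ThK1
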