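import Cfsg.Agent.ThK1.Rel
import Cfsg.Agent.ThK1.L0

set_option autoImplicit false
set_option Elab.async false
set_option maxRecDepth 100000
set_option linter.all false

namespace Cfsg.Agent.ThK1
open Cfsg.Agent.CGT

noncomputable def l1_n0 : Net := Net.cons 64 0xde3c0d1704000900 <|
  Net.cons 32 0x9e1b4b800000000630a2c00 <|
  Net.cons 16 0x6d9800005bc0000004e800004100 <|
  Net.cons 8 0xd400060068007c008000cc00400000 <|
  Net.cons 4 0x60400000204040a0202040008000e <|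
  Net.cons 2 0x200000200222000002000000000 <|
  Net.cons 1 0x51140154515145141001504040001550 <|
  Net.cons 2 0x23010131331230332200322203200032 <|
  Net.cons 4 0x405040a070a0c010a020204020e030e <|
  Net.cons 8 0xeb000500b500aa00c200cd007a0000 <|
  Net.cons 16 0xa26300003dfe000004fc00004100 <|
  Net.cons 32 0xae7b0f900000000630a2c00 <|
  Net.cons 64 0xde3c0d1704000900 <|
  Net.nil
noncomputable def l1_n1 : Net := Net.cons 64 0xeb6b42a1ca8806a0 <|
  Net.cons 32 0x68c73492000000007b628aa0 <|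
  Net.cons 16 0x348c0000a1f000009b04000014d4 <|
  Net.cons 8 0x60009200d800800098000a00500090 <|
  Net.cons 4 0xa0c00040c000c000e08000c000200 <|
  Net.cons 2 0x22022000000000000200000002000000 <|
  Net.cons 1 0x44411401500550500404010041000151 <|
  Net.cons 2 0x10331333320331310230200013003030 <|
  Net.cons 4 0xe03000c050d000c010e080e030b0200 <|
  Net.cons 8 0xb6006d0049008000b8001a00500094 <|
  Net.cons 16 0x7efc0000a9f00000db05000014d4 <|
  Net.cons 32 0x68c73492000000007b628aa0 <|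
  Net.cons 64 0xeb6b42a1ca8806a0 <|
  Net.nil
noncomputable def l1_n2 : Net := Net.cons 64 0xfff57a5008000000 <|
  Net.cons 32 0x552629580000000024100000 <|
  Net.cons 16 0x7cee000039300000a01a00001000 <|
  Net.cons 8 0x3a008a002800e400c00044002000b4 <|
  Net.cons 4 0x208000208000a06000a0006040004 <|
  Net.cons 2 0x220000000000002000002022000 <|
  Net.cons 1 0x54155145055055545414010004044140 <|
  Net.cons 2 0x2212000233212303002300132123102 <|
  Net.cons 4 0xf070d0f060c0f0a06080a0a06040f04 <|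
  Net.cons 8 0x7500c500ce00e400c70044003500b4 <|
  Net.cons 16 0x8311000039310000a01a00001000 <|
  Net.cons 32 0x552629580000000024100000 <|
  Net.cons 64 0xfff57a5008000000 <|
  Net.nil
noncomputable def l1_n3 : Net := Net.cons 64 0xf7da1c0881001200 <|
  Net.cons 32 0xb6c3131c0000000054605904 <|
  Net.cons 16 0x15c400008a4e00002bf2000036f8 <|
  Net.cons 8 0xea006600ea0012008000a200680062 <|
  Net.cons 4 0x6020004000802000004080c00000600 <|
  Net.cons 2 0x22020020022202222020002000200000 <|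
  Net.cons 1 0x41445540411401141540551000140510 <|
  Net.cons 2 0x1213321021132112320302122201002 <|
  Net.cons 4 0x206000c0207020f0207080c0f020604 <|
  Net.cons 8 0x5006600ea001200e600a2006800e2 <|
  Net.cons 16 0x15d400008e4e00002bf2000036f8 <|
  Net.cons 32 0xb6c3131c0000000054605904 <|
  Net.cons 64 0xf7da1c0881001200 <|
  Net.nil
noncomputable def l1_n4 : Net := Net.cons 64 0x1440001012080270 <|
  Net.cons 32 0xe3d22f24000000007f7eeb1c <|
  Net.cons 16 0xf55000001e4c0000a2cc000016c2 <|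
  Net.cons 8 0x7200c00026002e0024004000cc00b2 <|
  Net.cons 4 0xa040408000a0600080c0a0a000c00 <|
  Net.cons 2 0x20220220002000002000020000000000 <|
  Net.cons 1 0x10411114011550401115441414000504 <|
  Net.cons 2 0x13323221202333030203031033111010 <|
  Net.cons 4 0xa080b0b08000a060b0805030508000e <|
  Net.cons 8 0xa100a60026002e006400bf00cc006e <|
  Net.cons 16 0x10d300001e4c0000a2cc00009ee2 <|
  Net.cons 32 0xe3d22f24000000007f7eeb1c <|
  Net.cons 64 0x1440001012080270 <|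
  Net.nil
noncomputable def l1_ns : List Net := [l1_n0, l1_n1, l1_n2, l1_n3, l1_n4, Net.nil]
noncomputable def l1_R : List (List ℕ) := [[0, 0], [2, 2], [4, 4], [6, 6], [8, 8], [0, 2, 0, 2, 0, 2], [0, 8, 0, 8], [2, 4, 2, 4, 2, 4], [2, 6, 2, 6], [2, 8, 2, 8], [0, 7, 5, 7, 5, 7, 5, 7, 5], [4, 8, 4, 8], [6, 8, 6, 8, 6, 8], [2, 4, 6, 8, 2, 4, 6, 8, 2, 4, 6, 8, 2, 4, 6, 8, 2, 4, 6, 8, 2, 4, 6, 8, 2, 4, 6, 8, 2, 4, 6, 8]]
noncomputable def l1_S0 : List (List ℕ) := [[0], [4], [6], [8]]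
noncomputable def l1_E : Enum := ⟨l1_ns, l1_R, l1_S0, [], 0⟩
theorem l1_v : validAll (2 ^ 7) l1_ns = true := by decide +kernel
theorem l1_p0 : holdsB 7 l1_ns l1_R = true := by decide +kernel
theorem l1_p : Holds (lp l1_ns) l1_R := holdsB_sound l1_v l1_p0
theorem l1_f : allL l1_E.Sub (fixN l1_E.ns l1_E.b0) = true := by decide +kernel
theorem l1_r0 : l1_E.run [10, 9, 18, 17, 26, 25, 34, 33, 2, 1, 10, 9, 18, 17, 26, 25, 34, 33, 10, 9, 18, 17, 26, 25, 34, 33, 2, 1, 10, 9, 18, 17, 26, 25, 34, 33, 2, 1, 10, 9, 0, 1, 4, 9, 8, 17, 12, 25, 16, 33, 4120, 33, 4128, 25, 4132, 33, 4140, 33, 4120, 33, 4132, 33, 4120, 33, 4124, 17, 48, 25, 32808, 21, 8, 17, 44, 17, 28, 9, 4136, 29, 12, 25, 4128, 25, 32808, 21, 8, 17, 4136, 29, 12, 25, 3, 1, 7, 17, 11, 25, 15, 33, 4128, 25, 4132, 33, 4140, 33, 4120, 33, 4132, 33, 4116, 9, 28, 9, 48, 25, 32, 9, 36, 9, 20, 1, 4124, 17, 20520, 29, 28712, 29, 32808, 21, 8, 17, 12, 25, 4128,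 25, 44, 17, 28, 9, 4144, 33, 4120, 33, 32, 9, 36, 9, 4140, 33, 4120, 33, 4132, 33, 44, 17, 4120, 33, 48, 25, 40, 1, 4136, 29, 28712, 29, 32808, 21, 0, 1, 8, 17, 12, 25, 24, 1, 4128, 25, 44, 17, 4116, 9, 4124, 17, 48, 25, 4128, 25, 48, 25, 40, 1, 8232, 21, 16424, 21, 20520, 29, 32808, 21, 0, 1, 8, 17, 24, 1, 4128, 25, 28, 9, 4124, 17, 4144, 33, 32, 9, 36, 9, 4140, 33, 4120, 33, 4132, 33, 20, 1, 4124, 17, 40, 1, 4136, 29, 16424, 21, 12, 25, 24, 1, 28, 9, 20, 1, 40, 1, 8232, 21, 52, 9, 4148, 17, 8244, 25, 4, 9, 8, 17, 32, 9, 20, 1, 4144, 33, 40, 1, 32808, 21, 0, 1, 8, 17, 4116, 9, 4124, 17, 4136, 29, 4128, 25] (1 <<< 0) (List.replicate 11 0) (Enum.done 126 [0, 2, 4, 6, 8]) = true := by decide +kernel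
theorem l1_fin {G : Type*} [Group G] {γ : ℕ → G} (hR : Holds (ext γ) l1_R) {H : Subgroup G}
    (hS : ∀ u ∈ l1_S0, ev (ext γ) u ∈ H) : l1_E.Fin γ H 126 [0, 2, 4, 6, 8] :=
  have hy : l1_E.Hyp γ H := Enum.hyp_of l1_v hR l1_p hS l1_f
  (Enum.fin_of_done hy (Enum.inv_init 11) l1_r0)
noncomputable def l2_n2 : Net := Net.cons 1 0x4 <|
  Net.nil
noncomputable def l2_n3 : Net := Net.cons 4 0x8 <|
  Net.cons 2 0x22 <|
  Net.cons 1 0x14 <|
  Net.cons 2 0x22 <|
  Net.cons 4 0x8 <|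
  Net.nil
noncomputable def l2_n4 : Net := Net.cons 1 0x11 <|
  Net.nil
noncomputable def l2_ns : List Net := [Net.nil, Net.nil, l2_n2, l2_n3, l2_n4, Net.nil]
noncomputable def l2_R : List (List ℕ) := [[0, 0], [4, 4], [6, 6], [8, 8], [0, 8, 0, 8], [0, 7, 5, 7, 5, 7, 5, 7, 5], [4, 8, 4, 8], [6, 8, 6, 8, 6, 8]]
noncomputable def l2_S0 : List (List ℕ) := [[0], [4], [6]]
noncomputable def l2_E : Enum := ⟨l2_ns, l2_R, l2_S0, [], 0⟩
theorem l2_v : validAll (2 ^ 3) l2_ns = true := by decide +kernel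
theorem l2_p0 : holdsB 3 l2_ns l2_R = true := by decide +kernel
theorem l2_p : Holds (lp l2_ns) l2_R := holdsB_sound l2_v l2_p0
theorem l2_f : allL l2_E.Sub (fixN l2_E.ns l2_E.b0) = true := by decide +kernel
theorem l2_r0 : l2_E.run [34, 33, 26, 25, 18, 17, 26, 25, 34, 33, 4, 17, 8, 25, 12, 33, 3, 1, 7, 17, 11, 25, 16, 1, 24, 17, 4124, 33, 4120, 33, 28, 25, 16404, 21, 24, 17, 20, 1] (1 <<< 0) (List.replicate 11 0) (Enum.done 6 [0, 4, 6, 8]) = true := by decide +kernel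
theorem l2_fin {G : Type*} [Group G] {γ : ℕ → G} (hR : Holds (ext γ) l2_R) {H : Subgroup G}
    (hS : ∀ u ∈ l2_S0, ev (ext γ) u ∈ H) : l2_E.Fin γ H 6 [0, 4, 6, 8] :=
  have hy : l2_E.Hyp γ H := Enum.hyp_of l2_v hR l2_p hS l2_f
  (Enum.fin_of_done hy (Enum.inv_init 11) l2_r0)
noncomputable def l3_n0 : Net := Net.cons 1 0x55 <|
  Net.nil
noncomputable def l3_n2 : Net := Net.cons 4 0xc <|
  Net.cons 1 0x4 <|
  Net.cons 2 0x30 <|
  Net.cons 4 0xc <|
  Net.nil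
noncomputable def l3_n3 : Net := Net.cons 2 0x33 <|
  Net.nil
noncomputable def l3_ns : List Net := [l3_n0, Net.nil, l3_n2, l3_n3, Net.nil, Net.nil]
noncomputable def l3_R : List (List ℕ) := [[0, 0], [4, 4], [6, 6], [0, 7, 5, 7, 5, 7, 5, 7, 5]]
noncomputable def l3_S0 : List (List ℕ) := [[4]]
noncomputable def l3_E : Enum := ⟨l3_ns, l3_R, l3_S0, [], 0⟩
theorem l3_v : validAll (2 ^ 3) l3_ns = true := by decide +kernel
theorem l3_p0 : holdsB 3 l3_ns l3_R = true := by decide +kernel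
theorem l3_p : Holds (lp l3_ns) l3_R := holdsB_sound l3_v l3_p0
theorem l3_f : allL l3_E.Sub (fixN l3_E.ns l3_E.b0) = true := by decide +kernel
theorem l3_r0 : l3_E.run [2, 1, 26, 25, 18, 17, 26, 25, 0, 1, 4, 17, 8, 25, 3, 17, 16396, 21, 4, 17, 12, 1, 32780, 21, 0, 1] (1 <<< 0) (List.replicate 9 0) (Enum.done 8 [0, 4, 6]) = true := by decide +kernel
theorem l3_fin {G : Type*} [Group G] {γ : ℕ → G} (hR : Holds (ext γ) l3_R) {H : Subgroup G}
    (hS : ∀ u ∈ l3_S0, ev (ext γ) u ∈ H) : l3_E.Fin γ H 8 [0, 4, 6] :=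
  have hy : l3_E.Hyp γ H := Enum.hyp_of l3_v hR l3_p hS l3_f
  (Enum.fin_of_done hy (Enum.inv_init 9) l3_r0)
noncomputable def l4_n2 : Net := Net.cons 1 0x1 <|
  Net.nil
noncomputable def l4_ns : List Net := [Net.nil, Net.nil, l4_n2, Net.nil, Net.nil, Net.nil]
noncomputable def l4_R : List (List ℕ) := [[4, 4]]
noncomputable def l4_S0 : List (List ℕ) := []
noncomputable def l4_E : Enum := ⟨l4_ns, l4_R, l4_S0, [], 0⟩
theorem l4_v : validAll (2 ^ 3) l4_ns = true := by decide +kernel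
theorem l4_p0 : holdsB 3 l4_ns l4_R = true := by decide +kernel
theorem l4_p : Holds (lp l4_ns) l4_R := holdsB_sound l4_v l4_p0
theorem l4_f : allL l4_E.Sub (fixN l4_E.ns l4_E.b0) = true := by decide +kernel
theorem l4_r0 : l4_E.run [18, 17, 0, 17] (1 <<< 0) (List.replicate 7 0) (Enum.done 2 [4]) = true := by decide +kernel
theorem l4_fin {G : Type*} [Group G] {γ : ℕ → G} (hR : Holds (ext γ) l4_R) {H : Subgroup G}
    (hS : ∀ u ∈ l4_S0, ev (ext γ) u ∈ H) : l4_E.Fin γ H 2 [4] :=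
  have hy : l4_E.Hyp γ H := Enum.hyp_of l4_v hR l4_p hS l4_f
  (Enum.fin_of_done hy (Enum.inv_init 7) l4_r0)
theorem bd4 {G : Type*} [Group G] {γ : ℕ → G} (hR : Holds (ext γ) RR) : Bd (gp γ [4]) 2 :=
  Bd.step (l4_fin (hR.subR (by decide +kernel)) (wordsIn_sound γ (L := []) (by decide +kernel))) (Bd.gp_nil γ) (by norm_num)
theorem bd3 {G : Type*} [Group G] {γ : ℕ → G} (hR : Holds (ext γ) RR) : Bd (gp γ [0, 4, 6]) 16 :=
  Bd.step (l3_fin (hR.subR (by decide +kernel)) (wordsIn_sound γ (L := [4]) (by decide +kernel))) (bd4 hR) (by norm_num)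
theorem bd2 {G : Type*} [Group G] {γ : ℕ → G} (hR : Holds (ext γ) RR) : Bd (gp γ [0, 4, 6, 8]) 96 :=
  Bd.step (l2_fin (hR.subR (by decide +kernel)) (wordsIn_sound γ (L := [0, 4, 6]) (by decide +kernel))) (bd3 hR) (by norm_num)
theorem bd1 {G : Type*} [Group G] {γ : ℕ → G} (hR : Holds (ext γ) RR) : Bd (gp γ [0, 2, 4, 6, 8]) 12096 :=
  Bd.step (l1_fin (hR.subR (by decide +kernel)) (wordsIn_sound γ (L := [0, 4, 6, 8]) (by decide +kernel))) (bd2 hR) (by norm_num)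
theorem bd0 {G : Type*} [Group G] {γ : ℕ → G} (hR : Holds (ext γ) RR) : Bd (gp γ [0, 2, 4, 6, 8, 10]) 211341312 :=
  Bd.step (l0_fin (hR.subR (by decide +kernel)) (wordsIn_sound γ (L := [0, 2, 4, 6, 8]) (by decide +kernel))) (bd1 hR) (by norm_num)

end Cfsg.Agent.ThK1
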